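import Groth.Agent.NeronArea.MappingDescent
import Groth.Agent.DescentBase.FpqcCover
import Groth.Agent.AlgSp2.SmoothDescent
import Groth.Agent.EtaleBase.FpqcDescent

/-!
Torsors for the fpqc topology inherit fpqc local properties of their groups.
-/

set_option autoImplicit false
set_option backward.isDefEq.respectTransparency false
set_option backward.isDefEq.respectTransparency.types false

universe u

open CategoryTheory CategoryTheory.Limits AlgebraicGeometry

namespace Groth.H1Proper

variable {S : Scheme.{u}} {G X : Over S} [GrpObj G] (a : AlgGrp.Action G X)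

include a in
/-- An fpqc locally trivial pseudo-torsor has every fpqc local property of its group. -/
theorem property_of_fpqc (ha : NonAbH1.IsPseudoTorsorSch a)
    (P : MorphismProperty Scheme.{u}) [P.IsStableUnderBaseChange] [IsZariskiLocalAtTarget P]
    [hd : P.DescendsAlong Groth.DescentBase.SFQ]
    (hX : NonAbH1.IsLocallyTrivialFor Scheme.fpqcPrecoverage X) (hP : P G.hom) : P X.hom := by
  obtain ⟨R, hR, hsec⟩ := hX
  obtain ⟨I, Y, g, rfl⟩ := R.exists_eq_ofArrows
  let 𝒰 : Scheme.Cover Scheme.fpqcPrecoverage S := { I₀ := I, X := Y, f := g, mem₀ := hR }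
  refine Groth.DescentBase.of_fpqcCover P hd X.hom 𝒰 fun i => ?_
  obtain ⟨s, hs⟩ := hsec (g i) (Presieve.ofArrows.mk i)
  exact Groth.NeronArea.property_snd_of_section a ha P hP (g i) s hs

theorem surjective_of_fpqc (hX : NonAbH1.IsLocallyTrivialFor Scheme.fpqcPrecoverage X) :
    Surjective X.hom := by
  obtain ⟨R, hR, hsec⟩ := hX
  refine ⟨fun y => ?_⟩
  obtain ⟨Y, g, hg, y', rfl⟩ := hR.2.1 y
  obtain @⟨S', f, hf⟩ := hg
  obtain ⟨s, hs⟩ := hsec f hf
  exact ⟨s y', by rw [← Scheme.Hom.comp_apply, hs]; rfl⟩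

end Groth.H1Proper
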