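import Groth.Prelude.Def_ActBC
import Groth.Agent.NeronArea.GenericDense
import Groth.Agent.NeronArea.MappingDescent

/-!
An equivariant morphism of torsors given over a schematically dense part of the base extends when
both torsors are trivialised by a flat cover on which the points of the group extend.
-/

set_option autoImplicit false
set_option backward.isDefEq.respectTransparency false

universe u

open CategoryTheory CategoryTheory.Limits MonoidalCategory CartesianMonoidalCategory MonObj AlgebraicGeometry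

namespace Groth.H1Proper

section points

variable {S : Scheme.{u}} {G X : Over S} [GrpObj G]

theorem lift_mul_act (a : AlgGrp.Action G X) {T : Over S} (g h : T ⟶ G) (y : T ⟶ X) :
    lift (g * h) y ≫ a.act = lift g (lift h y ≫ a.act) ≫ a.act := by
  rw [Hom.mul_def, ← lift_whiskerRight (lift g h) y μ[G], Category.assoc, a.mul_act,
    lift_lift_associator_hom_assoc, lift_whiskerLeft_assoc]

end points

variable {S U : Scheme.{u}} (j₀ : U ⟶ S) {G X Y : Over S} [GrpObj G]

/-- Base change of the value of an action at points. -/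
theorem map_lift_act (a : AlgGrp.Action G X) {T : Over S} (g : T ⟶ G) (y : T ⟶ X) :
    (Over.pullback j₀).map (lift g y ≫ a.act) =
      lift ((Over.pullback j₀).map g) ((Over.pullback j₀).map y) ≫ (a.bc j₀).act := by
  rw [AlgGrp.Action.bc_act, Functor.map_comp, Functor.Monoidal.lift_μ_assoc]

variable [IsSchemeTheoreticallyDominant j₀] [QuasiCompact j₀]

/-- An equivariant morphism over the dense part extends. -/
theorem exists_extension_equivariant [Flat G.hom] (a : AlgGrp.Action G X) (b : AlgGrp.Action G Y)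
    (ha : NonAbH1.IsPseudoTorsorSch a) (hb : NonAbH1.IsPseudoTorsorSch b)
    [Flat X.hom] [IsSeparated Y.hom] (T : Over S) [Flat T.hom] [Surjective T.hom]
    [QuasiCompact T.hom] (p : T ⟶ X) (q : T ⟶ Y)
    (hT : Function.Surjective (fun g : T ⟶ G => (Over.pullback j₀).map g))
    (φ : (Over.pullback j₀).obj X ⟶ (Over.pullback j₀).obj Y)
    (hφ : (a.bc j₀).act ≫ φ = ((Over.pullback j₀).obj G ◁ φ) ≫ (b.bc j₀).act) :
    ∃ f : X ⟶ Y, (Over.pullback j₀).map f = φ ∧ a.act ≫ f = (G ◁ f) ≫ b.act := by
  have hb' := NonAbH1.isPseudoTorsorSch_bc j₀ hb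
  obtain ⟨g₀, hg₀⟩ := hT (Groth.NeronArea.torsorDiv (b.bc j₀) hb' ((Over.pullback j₀).map p ≫ φ)
    ((Over.pullback j₀).map q))
  simp only at hg₀
  let c : X ⊗ T ⟶ X := fst X T
  let ψ : X ⊗ T ⟶ Y :=
    lift (Groth.NeronArea.torsorDiv a ha c (snd X T ≫ p) * (snd X T ≫ g₀)) (snd X T ≫ q) ≫ b.act
  have hψ : (Over.pullback j₀).map ψ = (Over.pullback j₀).map c ≫ φ := by
    conv_rhs => rw [← Groth.NeronArea.torsorDiv_act a ha c (snd X T ≫ p)]
    simp only [ψ, map_lift_act, Category.assoc, hφ, lift_whiskerLeft_assoc]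
    rw [Functor.map_mul, lift_mul_act]
    congr 2
    rw [Functor.map_comp (Over.pullback j₀) (snd X T) p, Category.assoc,
      ← Groth.NeronArea.torsorDiv_act (b.bc j₀) hb' ((Over.pullback j₀).map p ≫ φ)
        ((Over.pullback j₀).map q), ← hg₀, Functor.map_comp, Functor.map_comp, comp_lift_assoc]
  haveI : Flat c.left := inferInstanceAs (Flat (pullback.fst X.hom T.hom))
  haveI : Surjective c.left := inferInstanceAs (Surjective (pullback.fst X.hom T.hom))
  haveI : QuasiCompact c.left := inferInstanceAs (QuasiCompact (pullback.fst X.hom T.hom))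
  haveI : Flat (X ⊗ T).hom := inferInstanceAs (Flat (pullback.fst X.hom T.hom ≫ X.hom))
  let Q : Over S := Over.mk (pullback.fst c.left c.left ≫ (X ⊗ T).hom)
  let p₁ : Q ⟶ X ⊗ T := Over.homMk (pullback.fst c.left c.left) rfl
  let p₂ : Q ⟶ X ⊗ T := Over.homMk (pullback.snd c.left c.left) (by
    show pullback.snd c.left c.left ≫ (X ⊗ T).hom = pullback.fst c.left c.left ≫ (X ⊗ T).hom
    rw [← Over.w c, pullback.condition_assoc])
  haveI : Flat Q.hom := inferInstanceAs (Flat (pullback.fst c.left c.left ≫ (X ⊗ T).hom))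
  have hp : p₁ ≫ c = p₂ ≫ c := Over.OverMorphism.ext pullback.condition
  have heq : p₁ ≫ ψ = p₂ ≫ ψ := by
    refine Groth.NeronArea.map_injective_of_flat j₀ Q Y ?_
    simp only [Functor.map_comp, hψ]
    rw [← Category.assoc, ← Functor.map_comp, hp, Functor.map_comp, Category.assoc]
  have hcond : ∀ {Z : Scheme.{u}} (g₁ g₂ : Z ⟶ (X ⊗ T).left), g₁ ≫ c.left = g₂ ≫ c.left →
      g₁ ≫ ψ.left = g₂ ≫ ψ.left := fun g₁ g₂ hg => by
    have h2 : pullback.fst c.left c.left ≫ ψ.left = pullback.snd c.left c.left ≫ ψ.left :=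
      congrArg CommaMorphism.left heq
    have := congrArg (pullback.lift g₁ g₂ hg ≫ ·) h2
    simpa using this
  let f₀ := EffectiveEpi.desc c.left ψ.left hcond
  have hf₀ : c.left ≫ f₀ = ψ.left := EffectiveEpi.fac c.left ψ.left hcond
  let f : X ⟶ Y := Over.homMk f₀ (by rw [← cancel_epi c.left, reassoc_of% hf₀, Over.w ψ, Over.w c])
  have hcf : c ≫ f = ψ := Over.OverMorphism.ext hf₀
  haveI : Epi ((Over.pullback j₀).map c) := by
    have hsq := Groth.NeronArea.rstMap_left_isPullback j₀ c
    haveI : Flat ((Over.pullback j₀).map c).left :=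
      MorphismProperty.of_isPullback hsq.flip ‹Flat c.left›
    haveI : Surjective ((Over.pullback j₀).map c).left :=
      MorphismProperty.of_isPullback hsq.flip ‹Surjective c.left›
    haveI : QuasiCompact ((Over.pullback j₀).map c).left :=
      MorphismProperty.of_isPullback hsq.flip ‹QuasiCompact c.left›
    exact Over.epi_of_epi_left _
  have hf : (Over.pullback j₀).map f = φ := by
    rw [← cancel_epi ((Over.pullback j₀).map c), ← Functor.map_comp, hcf, hψ]
  refine ⟨f, hf, ?_⟩
  haveI : Flat (G ⊗ X).hom := inferInstanceAs (Flat (pullback.fst G.hom X.hom ≫ G.hom))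
  refine Groth.NeronArea.map_injective_of_flat j₀ (G ⊗ X) Y ?_
  simp only
  rw [← cancel_epi (Functor.LaxMonoidal.μ (Over.pullback j₀) G X), Functor.map_comp, Functor.map_comp,
    ← Functor.LaxMonoidal.μ_natural_right_assoc, hf, ← Category.assoc, ← AlgGrp.Action.bc_act, hφ,
    AlgGrp.Action.bc_act]

end Groth.H1Proper
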