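import Mathlib

/-!
Integral closure of a Dedekind domain in an algebraic extension: its local rings are valuation rings.
-/

set_option autoImplicit false

universe u

open Polynomial

namespace Groth.H1Proper

section alg

variable {B L : Type*} [CommRing B] [IsDomain B] [IsLocalRing B] [IsIntegrallyClosed B]
  [Field L] [Algebra B L] [IsFractionRing B L]

/-- A root of a polynomial with a unit coefficient over an integrally closed local ring lies in
the ring, or its inverse does. -/
theorem isInteger_or_isInteger_inv (x : L) : ∀ (n : ℕ) (a : ℕ → B),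
    ∑ i ∈ Finset.range (n + 1), algebraMap B L (a i) * x ^ i = 0 → (∃ i, i ≤ n ∧ IsUnit (a i)) →
      IsLocalization.IsInteger B x ∨ IsLocalization.IsInteger B x⁻¹
  | 0, a, h, ⟨i, hi, hu⟩ => by
    obtain rfl : i = 0 := by omega
    rw [Finset.sum_range_one, pow_zero, mul_one] at h
    exact absurd ((FaithfulSMul.algebraMap_injective B L) (h.trans (map_zero _).symm)) hu.ne_zero
  | n + 1, a, h, ⟨i, hi, hu⟩ => by
    obtain ⟨y, hy⟩ : ∃ y : B, algebraMap B L y = algebraMap B L (a (n + 1)) * x := by
      by_cases h0 : a (n + 1) = 0
      · exact ⟨0, by simp [h0]⟩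
      let p : B[X] := ∑ l ∈ Finset.range (n + 1 + 1), C (a l) * X ^ l
      have hdeg : p.natDegree ≤ n + 1 := by
        refine natDegree_sum_le_of_forall_le _ _ fun l hl => ?_
        exact (natDegree_C_mul_X_pow_le (a l) l).trans (Nat.le_of_lt_succ (Finset.mem_range.1 hl))
      have hcoeff : p.coeff (n + 1) = a (n + 1) := by
        simp [p, coeff_C_mul, coeff_X_pow]
      have hlead : p.leadingCoeff = a (n + 1) := by
        rw [leadingCoeff, natDegree_eq_of_le_of_coeff_ne_zero hdeg (hcoeff ▸ h0), hcoeff]
      have hint := isIntegral_leadingCoeff_smul p x (by simpa [p, map_sum] using h)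
      rw [hlead, Algebra.smul_def] at hint
      exact IsIntegrallyClosed.isIntegral_iff.1 hint
    by_cases htop : IsUnit (a (n + 1))
    · obtain ⟨v, hv⟩ := htop
      refine Or.inl ⟨↑v⁻¹ * y, ?_⟩
      rw [map_mul, hy, ← mul_assoc, ← map_mul, ← hv, Units.inv_mul, map_one, one_mul]
    by_cases hyu : IsUnit y
    · obtain ⟨v, hv⟩ := hyu
      refine Or.inr ⟨a (n + 1) * ↑v⁻¹, ?_⟩
      refine eq_inv_of_mul_eq_one_left ?_
      rw [map_mul, mul_assoc, mul_comm _ x, ← mul_assoc, ← hy, ← map_mul, ← hv, Units.mul_inv, map_one]
    let a' : ℕ → B := fun l => if l = n then a n + y else a l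
    refine isInteger_or_isInteger_inv x n a' ?_ ?_
    · rw [← h, Finset.sum_range_succ _ (n + 1), Finset.sum_range_succ, Finset.sum_range_succ]
      have : ∀ l ∈ Finset.range n, algebraMap B L (a' l) * x ^ l = algebraMap B L (a l) * x ^ l :=
        fun l hl => by rw [show a' l = a l from if_neg (Finset.mem_range.1 hl).ne]
      rw [Finset.sum_congr rfl this, show a' n = a n + y from if_pos rfl, map_add, hy, pow_succ]
      ring
    · have hi' : i ≤ n := by
        rcases Nat.lt_or_eq_of_le hi with h' | rfl
        · omega
        · exact absurd hu htop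
      refine ⟨i, hi', ?_⟩
      rcases eq_or_ne i n with rfl | hne
      · rw [show a' i = a i + y from if_pos rfl]
        by_contra hn
        exact (IsLocalRing.nonunits_add hn (b := -y) (by simpa using hyu)) (by simpa using hu)
      · rwa [show a' i = a i from if_neg hne]

end alg

section dedekind

variable {R : Type*} [CommRing R] [IsDedekindDomain R]

theorem valuationRing_localization (p : Ideal R) [p.IsPrime] :
    ValuationRing (Localization.AtPrime p) := by
  by_cases hp : p = ⊥
  · refine ValuationRing.iff_dvd_total.2 ⟨fun a b => ?_⟩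
    rcases eq_or_ne a 0 with rfl | ha
    · exact Or.inr (dvd_zero b)
    · refine Or.inl (IsUnit.dvd ?_)
      obtain ⟨⟨c, s⟩, rfl⟩ := IsLocalization.mk'_surjective p.primeCompl a
      rw [IsLocalization.AtPrime.isUnit_mk'_iff (S := Localization.AtPrime p) (I := p)]
      intro hc
      rw [hp, SetLike.mem_coe, Ideal.mem_bot] at hc
      exact ha (by simp [hc])
  · haveI : p.IsMaximal := Ideal.IsPrime.isMaximal inferInstance hp
    exact (inferInstance : ValuationRing (Localization p.primeCompl))

variable {L : Type*} [Field L] [Algebra R L] [FaithfulSMul R L] [Algebra.IsAlgebraic R L]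

instance isFractionRing_intClosure : IsFractionRing (integralClosure R L) L :=
  integralClosure.isFractionRing_of_algebraic fun _ h =>
    FaithfulSMul.algebraMap_injective R L (h.trans (map_zero _).symm)

instance isIntegrallyClosed_intClosure : IsIntegrallyClosed (integralClosure R L) :=
  isIntegrallyClosed_iff_isIntegrallyClosedIn L |>.2
    (inferInstanceAs (IsIntegrallyClosedIn (integralClosure R L) L))

theorem valuationRing_intClosure (q : Ideal (integralClosure R L)) [q.IsPrime]
    (V : Type*) [CommRing V] [IsDomain V] [Algebra (integralClosure R L) V] [Algebra V L]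
    [IsScalarTower (integralClosure R L) V L] [IsLocalization.AtPrime V q] [IsFractionRing V L] :
    ValuationRing V := by
  classical
  haveI : IsLocalRing V := IsLocalization.AtPrime.isLocalRing V q
  haveI : IsIntegrallyClosed V :=
    isIntegrallyClosed_of_isLocalization V q.primeCompl q.primeCompl_le_nonZeroDivisors
  refine (ValuationRing.iff_isInteger_or_isInteger V L).2 fun x => ?_
  obtain ⟨F, hF, hFx⟩ := Algebra.IsAlgebraic.isAlgebraic (R := R) x
  let p : Ideal R := q.comap (algebraMap R (integralClosure R L))
  haveI : ValuationRing (Localization.AtPrime p) := valuationRing_localization p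
  let φ : Localization.AtPrime p →+* V :=
    IsLocalization.map V (M := p.primeCompl) (T := q.primeCompl) (algebraMap R (integralClosure R L))
      fun r hr => hr
  have hφ : ∀ r, algebraMap V L (φ (algebraMap R _ r)) = algebraMap R L r := fun r => by
    rw [IsLocalization.map_eq, ← IsScalarTower.algebraMap_apply]
    rfl
  -- a coefficient dividing all the others
  have hdiv : ∀ s : Finset ℕ, s.Nonempty → ∃ i ∈ s, ∀ l ∈ s,
      algebraMap R (Localization.AtPrime p) (F.coeff i) ∣ algebraMap R _ (F.coeff l) := by
    intro s hs
    induction hs using Finset.Nonempty.cons_induction with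
    | singleton a => exact ⟨a, Finset.mem_singleton_self a, fun l hl => by rw [Finset.mem_singleton.1 hl]⟩
    | cons a t ha ht ih =>
      obtain ⟨i, hi, hdi⟩ := ih
      rcases ValuationRing.dvd_total (algebraMap R (Localization.AtPrime p) (F.coeff i))
        (algebraMap R _ (F.coeff a)) with h | h
      · refine ⟨i, Finset.mem_cons_of_mem hi, fun l hl => ?_⟩
        rcases Finset.mem_cons.1 hl with rfl | hl
        · exact h
        · exact hdi l hl
      · refine ⟨a, Finset.mem_cons_self a t, fun l hl => ?_⟩
        rcases Finset.mem_cons.1 hl with rfl | hl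
        · exact dvd_rfl
        · exact h.trans (hdi l hl)
  obtain ⟨i, hi, hdi⟩ := hdiv F.support (Polynomial.support_nonempty.2 hF)
  have hine : algebraMap R L (F.coeff i) ≠ 0 := fun h =>
    Polynomial.mem_support_iff.1 hi (FaithfulSMul.algebraMap_injective R L (h.trans (map_zero _).symm))
  have hall : ∀ l, algebraMap R (Localization.AtPrime p) (F.coeff i) ∣ algebraMap R _ (F.coeff l) :=
    fun l => by
      by_cases hl : l ∈ F.support
      · exact hdi l hl
      · rw [Polynomial.notMem_support_iff.1 hl, map_zero]
        exact dvd_zero _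
  choose c hc using hall
  let a : ℕ → V := fun l => if l = i then 1 else φ (c l)
  have ha : ∀ l, algebraMap R L (F.coeff i) * algebraMap V L (a l) = algebraMap R L (F.coeff l) := by
    intro l
    rcases eq_or_ne l i with rfl | hne
    · simp [a]
    · rw [← hφ, ← hφ, hc l, map_mul φ, map_mul, show a l = φ (c l) from if_neg hne]
  refine isInteger_or_isInteger_inv x F.natDegree a ?_
    ⟨i, Polynomial.le_natDegree_of_mem_supp _ hi, by simp [a]⟩
  refine (mul_eq_zero.1 ?_).resolve_left hine
  rw [Finset.mul_sum, ← hFx, Polynomial.aeval_eq_sum_range]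
  exact Finset.sum_congr rfl fun l _ => by rw [← mul_assoc, ha, Algebra.smul_def]

end dedekind

end Groth.H1Proper
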