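import Groth.Agent.H1Proper.IntClosure
import Groth.Agent.NeronArea.GenericDense
import Groth.Agent.NeronArea.GenericGlue

/-!
Points of proper schemes over a Dedekind domain with values in the integral closure in an algebraic
closure of the fraction field.
-/

set_option autoImplicit false
set_option backward.isDefEq.respectTransparency false

universe u

open CategoryTheory CategoryTheory.Limits AlgebraicGeometry

set_option synthInstance.maxHeartbeats 100000

namespace Groth.H1Proper

variable (R : Type u) [CommRing R] [IsDedekindDomain R]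

/-- The algebraic closure of the fraction field. -/
abbrev Kbar : Type u := AlgebraicClosure (FractionRing R)

instance isAlgebraic_Kbar : Algebra.IsAlgebraic R (Kbar R) :=
  (IsFractionRing.comap_isAlgebraic_iff (K := FractionRing R)).2 inferInstance

instance faithfulSMul_Kbar : FaithfulSMul R (Kbar R) :=
  (faithfulSMul_iff_algebraMap_injective R (Kbar R)).2 (by
    rw [IsScalarTower.algebraMap_eq R (FractionRing R) (Kbar R)]
    exact (algebraMap (FractionRing R) (Kbar R)).injective.comp (IsFractionRing.injective R _))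

/-- The integral closure. -/
abbrev Rbar : Type u := integralClosure R (Kbar R)

/-- Its spectrum, over the base. -/
noncomputable abbrev barS : Over (Spec (CommRingCat.of R)) :=
  Over.mk (Spec.map (CommRingCat.ofHom (algebraMap R (Rbar R))))

/-- The generic point of the spectrum of the integral closure. -/
noncomputable abbrev barGen : Spec (CommRingCat.of (Kbar R)) ⟶ (barS R).left :=
  Spec.map (CommRingCat.ofHom (algebraMap (Rbar R) (Kbar R)))

instance flat_barS : Flat (barS R).hom := by
  refine (Flat.SpecMap_iff (f := CommRingCat.ofHom _)).2 ?_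
  rw [CommRingCat.hom_ofHom, RingHom.flat_algebraMap_iff, IsDedekindDomain.flat_iff_torsion_eq_bot,
    ← Submodule.isTorsionFree_iff_torsion_eq_bot]
  infer_instance

instance surjective_barS : Surjective (barS R).hom :=
  ⟨RingHom.IsIntegral.comap_surjective (f := algebraMap R (Rbar R))
    (algebraMap_isIntegral_iff.2 inferInstance) (FaithfulSMul.algebraMap_injective R (Rbar R))⟩

instance isIntegral_barS : AlgebraicGeometry.IsIntegral (barS R).left :=
  inferInstanceAs (AlgebraicGeometry.IsIntegral (Spec (CommRingCat.of (Rbar R))))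

/-- The generic fibre of the integral closure. -/
theorem isPullback_barGen : IsPullback (barGen R)
    (Spec.map (CommRingCat.ofHom (algebraMap (FractionRing R) (Kbar R)))) (barS R).hom
    (Neron.genPt R) := by
  have : IsLocalization (Algebra.algebraMapSubmonoid (Rbar R) (nonZeroDivisors R)) (Kbar R) := by
    refine ⟨?_, fun z => ?_, fun {a b} h => ⟨1, by simpa using FaithfulSMul.algebraMap_injective _ _ h⟩⟩
    · rintro ⟨_, r, hr, rfl⟩
      refine IsUnit.mk0 _ fun h => nonZeroDivisors.ne_zero hr ?_
      exact FaithfulSMul.algebraMap_injective R (Kbar R) (h.trans (map_zero _).symm)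
    · obtain ⟨y, hy, hint⟩ := (Algebra.IsAlgebraic.isAlgebraic (R := R) z).exists_integral_multiple
      refine ⟨⟨⟨y • z, hint⟩, ⟨algebraMap R (Rbar R) y, y, mem_nonZeroDivisors_of_ne_zero hy, rfl⟩⟩, ?_⟩
      show z * algebraMap R (Kbar R) y = y • z
      rw [Algebra.smul_def, mul_comm]
  haveI : Algebra.IsPushout R (Rbar R) (FractionRing R) (Kbar R) :=
    Algebra.isPushout_of_isLocalization (nonZeroDivisors R) (FractionRing R) (Rbar R) (Kbar R)
  exact isPullback_SpecMap_of_isPushout _ _ _ _
    (CommRingCat.isPushout_of_isPushout R (Rbar R) (FractionRing R) (Kbar R))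

variable {P : Scheme.{u}} (q : P ⟶ Spec (CommRingCat.of R)) [IsProper q]

theorem locallyOfFinitePresentation_of_isNoetherian {X Y : Scheme.{u}} (f : X ⟶ Y)
    [LocallyOfFiniteType f] [IsLocallyNoetherian Y] : LocallyOfFinitePresentation f := by
  rw [HasRingHomProperty.iff_appLE (P := @LocallyOfFinitePresentation)]
  intro U V e
  have := IsLocallyNoetherian.component_noetherian U
  letI := (f.appLE U V e).hom.toAlgebra
  exact Algebra.FinitePresentation.of_finiteType.1
    (HasRingHomProperty.appLE (P := @LocallyOfFiniteType) f inferInstance U V e)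

/-- A generic point of a proper scheme extends to the integral closure. -/
theorem exists_extension (a : Spec (CommRingCat.of (Kbar R)) ⟶ P)
    (ha : a ≫ q = barGen R ≫ (barS R).hom) :
    ∃ g : (barS R).left ⟶ P, g ≫ q = (barS R).hom ∧ barGen R ≫ g = a := by
  haveI := locallyOfFinitePresentation_of_isNoetherian q
  haveI : IsPreimmersion (barGen R) :=
    IsPreimmersion.of_isLocalization (nonZeroDivisors (Rbar R))
  refine Groth.NeronArea.exists_glue_of_stalk_generic (barGen R) (barS R).hom q ?_ ?_ a ha ?_
  · exact fun x =>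
      haveI : Nonempty ((⊤ : (barS R).left.Opens) : Scheme.{u}) := ⟨⟨x, trivial⟩⟩
      ⟨⊤, trivial, isIntegral_of_isOpenImmersion (⊤ : (barS R).left.Opens).ι⟩
  · intro x hx
    let g0 : (barS R).left := (⟨⊥, Ideal.isPrime_bot⟩ : PrimeSpectrum (Rbar R))
    have hspec : g0 ⤳ x := (PrimeSpectrum.le_iff_specializes _ _).1 (bot_le (a := x.asIdeal))
    refine ⟨(⟨⊥, Ideal.isPrime_bot⟩ : PrimeSpectrum (Kbar R)), ?_⟩
    rw [← hx g0 hspec]
    exact PrimeSpectrum.ext (Ideal.comap_bot_of_injective _ (FaithfulSMul.algebraMap_injective _ _))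
  intro x
  let V := Localization.subalgebra.ofField (Kbar R) (PrimeSpectrum.asIdeal x).primeCompl
    (Ideal.primeCompl_le_nonZeroDivisors _)
  haveI : ValuationRing V := valuationRing_intClosure (PrimeSpectrum.asIdeal x) V
  let σ : (barS R).left.presheaf.stalk x ≅ CommRingCat.of V :=
    (Spec.stalkIso (CommRingCat.of (Rbar R)) x) ≪≫
      (IsLocalization.algEquiv (PrimeSpectrum.asIdeal x).primeCompl
        (Localization.AtPrime (PrimeSpectrum.asIdeal x)) V).toRingEquiv.toCommRingCatIso
  let toB : Spec (CommRingCat.of V) ⟶ (barS R).left :=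
    Spec.map (CommRingCat.ofHom (algebraMap (Rbar R) V))
  have he : Spec.map σ.inv ≫ toB = (barS R).left.fromSpecStalk x := by
    change _ = (Spec (CommRingCat.of (Rbar R))).fromSpecStalk x
    rw [Spec.fromSpecStalk_eq, ← Spec.algebraMap_stalkIso_inv]
    refine (Spec.map_comp _ _).symm.trans (congrArg Spec.map ?_)
    simp only [σ, Iso.trans_inv, ← Category.assoc]
    congr 1
    ext r
    exact (IsLocalization.algEquiv (PrimeSpectrum.asIdeal x).primeCompl
      (Localization.AtPrime (PrimeSpectrum.asIdeal x)) V).symm.commutes r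
  let toV : Spec (CommRingCat.of (Kbar R)) ⟶ Spec (CommRingCat.of V) :=
    Spec.map (CommRingCat.ofHom (algebraMap V (Kbar R)))
  have htoV : toV ≫ toB = barGen R := by
    rw [← Spec.map_comp, ← CommRingCat.ofHom_comp, ← IsScalarTower.algebraMap_eq]
  obtain ⟨⟨l⟩⟩ := (UniversallyClosed.eq_valuativeCriterion ▸
    (inferInstance : UniversallyClosed q) : ValuativeCriterion.Existence q ∧ _).1
    { R := V, K := Kbar R, i₁ := a, i₂ := toB ≫ (barS R).hom,
      commSq := ⟨by rw [ha, ← htoV, Category.assoc]⟩ }
  have hl2 : toV ≫ l.l = a := l.fac_left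
  have hl3 : l.l ≫ q = toB ≫ (barS R).hom := l.fac_right
  refine ⟨Spec.map σ.inv ≫ l.l, by rw [Category.assoc, hl3, reassoc_of% he], ?_⟩
  have hfst : pullback.fst ((barS R).left.fromSpecStalk x) (barGen R) =
      pullback.snd _ _ ≫ toV ≫ Spec.map σ.hom := by
    rw [← cancel_mono ((barS R).left.fromSpecStalk x), pullback.condition]
    simp only [Category.assoc, ← he, ← Spec.map_comp_assoc, Iso.inv_hom_id, Spec.map_id, Category.id_comp, htoV]
  rw [hfst]
  simp only [Category.assoc, ← Spec.map_comp_assoc, Iso.inv_hom_id, Spec.map_id, Category.id_comp, hl2]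

/-- A proper surjective scheme has a point in the integral closure. -/
theorem exists_point [Surjective q] : ∃ g : (barS R).left ⟶ P, g ≫ q = (barS R).hom := by
  let j : Spec (CommRingCat.of (Kbar R)) ⟶ Spec (CommRingCat.of R) := barGen R ≫ (barS R).hom
  haveI : Nonempty (pullback q j : Scheme.{u}) := by
    obtain ⟨y, -⟩ := (pullback.snd q j).surjective
      ((⟨⊥, Ideal.isPrime_bot⟩ : PrimeSpectrum (Kbar R)) : Spec (CommRingCat.of (Kbar R)))
    exact ⟨y⟩
  haveI : JacobsonSpace (pullback q j : Scheme.{u}) :=
    LocallyOfFiniteType.jacobsonSpace (pullback.snd q j)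
  obtain ⟨x, -, hx⟩ := nonempty_inter_closedPoints (Set.univ_nonempty (α := (pullback q j : Scheme.{u})))
    isClosed_univ.isLocallyClosed
  obtain ⟨g, hg, -⟩ := exists_extension R q (pointOfClosedPoint (pullback.snd q j) x hx ≫ pullback.fst q j)
    (by rw [Category.assoc, pullback.condition, pointOfClosedPoint_comp_assoc])
  exact ⟨g, hg⟩

end Groth.H1Proper
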